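import Groth.Prelude.Def_SpSeq
import Mathlib.CategoryTheory.Abelian.Refinements
import Mathlib.CategoryTheory.Limits.Shapes.Pullback.IsPullback.Basic

/-!
Pushouts and pullbacks of filtered objects.
-/

set_option autoImplicit false
universe v u

open CategoryTheory CategoryTheory.Limits SpSeq

namespace Groth.Agent.SpSeqFilLim

variable {A : Type u} [Category.{v} A] [Abelian A]

lemma factors_pullback {X Y T : A} (f : X ⟶ Y) (Q : Subobject Y) (h : T ⟶ X) :
    ((Subobject.pullback f).obj Q).Factors h ↔ Q.Factors (h ≫ f) := by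
  constructor
  · intro hh
    refine (Subobject.factors_iff _ _).2 ⟨Subobject.factorThru _ h hh ≫ Subobject.pullbackπ f Q, ?_⟩
    show (_ ≫ _) ≫ Q.arrow = _
    rw [Category.assoc, (Subobject.isPullback f Q).w, Subobject.factorThru_arrow_assoc]
  · intro hh
    exact (Subobject.factors_iff _ _).2 ⟨(Subobject.isPullback f Q).lift (Subobject.factorThru _ _ hh) h
      (Subobject.factorThru_arrow _ _ hh), (Subobject.isPullback f Q).lift_snd _ _ _⟩

lemma le_pullback_iff {X Y : A} (P : Subobject X) (f : X ⟶ Y) (Q : Subobject Y) :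
    P ≤ (Subobject.pullback f).obj Q ↔ Q.Factors (P.arrow ≫ f) := by
  rw [← factors_pullback]
  refine ⟨fun h => Subobject.factors_of_le _ h (Subobject.factors_self P), fun h =>
    Subobject.le_of_comm (Subobject.factorThru _ _ h) (Subobject.factorThru_arrow _ _ h)⟩

lemma im_le {X Y : A} (f : X ⟶ Y) (Q : Subobject Y) (h : Q.Factors f) : imageSubobject f ≤ Q :=
  imageSubobject_le f (Q.factorThru f h) (Q.factorThru_arrow f h)

lemma le_of_refinements {X : A} (P Q : Subobject X)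
    (h : ∀ {T : A} (x : T ⟶ X), P.Factors x →
      ∃ (T' : A) (π : T' ⟶ T) (_ : Epi π), Q.Factors (π ≫ x)) : P ≤ Q := by
  obtain ⟨T, π, hπ, hf⟩ := h P.arrow (Subobject.factors_self P)
  have h0 : P.arrow ≫ cokernel.π Q.arrow = 0 := by
    rw [← cancel_epi π, comp_zero, ← Category.assoc, ← Subobject.factorThru_arrow Q _ hf,
      Category.assoc, cokernel.condition, comp_zero]
  exact Subobject.le_of_comm (Abelian.monoLift Q.arrow P.arrow h0) (Abelian.monoLift_comp _ _ _)

lemma mem_im {X Y T : A} (f : X ⟶ Y) (y : T ⟶ Y) (h : (imageSubobject f).Factors y) :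
    ∃ (T' : A) (π : T' ⟶ T) (_ : Epi π) (x : T' ⟶ X), π ≫ y = x ≫ f := by
  obtain ⟨T', π, hπ, x, hx⟩ := surjective_up_to_refinements_of_epi (factorThruImageSubobject f)
    ((imageSubobject f).factorThru y h)
  refine ⟨T', π, hπ, x, ?_⟩
  rw [← Subobject.factorThru_arrow _ y h, ← Category.assoc, hx, Category.assoc,
    imageSubobject_arrow_comp]

lemma im_inf_eq {K L : FilObj A} (f : K ⟶ L) (p : ℤ) :
    imageSubobject ((K.fil p).arrow ≫ f.hom) ≤ imageSubobject f.hom ⊓ L.fil p :=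
  le_inf (imageSubobject_comp_le _ _) (im_le _ _ ((le_pullback_iff _ _ _).1 (f.compat p)))

/-- Strictness, elementwise. -/
lemma strict_of {K L : FilObj A} (f : K ⟶ L)
    (h : ∀ (p : ℤ) {T : A} (x : T ⟶ K.obj), (L.fil p).Factors (x ≫ f.hom) →
      ∃ (T' : A) (π : T' ⟶ T) (_ : Epi π) (x' : T' ⟶ K.obj),
        (K.fil p).Factors x' ∧ π ≫ x ≫ f.hom = x' ≫ f.hom) : FilObj.IsStrict f := by
  intro p
  refine le_antisymm (im_inf_eq f p) (le_of_refinements _ _ fun {T} y hy => ?_)
  rw [Subobject.inf_factors] at hy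
  obtain ⟨T₁, π₁, hπ₁, x, hx⟩ := mem_im f.hom y hy.1
  obtain ⟨T₂, π₂, hπ₂, x', hx', hxx⟩ := h p x (by rw [← hx]; exact Subobject.factors_of_factors_right π₁ hy.2)
  refine ⟨T₂, π₂ ≫ π₁, epi_comp _ _, (Subobject.factors_iff _ _).2
    ⟨(K.fil p).factorThru x' hx' ≫ factorThruImageSubobject ((K.fil p).arrow ≫ f.hom), ?_⟩⟩
  show (_ ≫ _) ≫ (imageSubobject _).arrow = _
  rw [Category.assoc, imageSubobject_arrow_comp, Subobject.factorThru_arrow_assoc, ← hxx, ← hx,
    Category.assoc]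

lemma strict_elim {K L : FilObj A} (f : K ⟶ L) (hf : FilObj.IsStrict f) (p : ℤ) {T : A}
    (x : T ⟶ K.obj) (hx : (L.fil p).Factors (x ≫ f.hom)) :
    ∃ (T' : A) (π : T' ⟶ T) (_ : Epi π) (x' : T' ⟶ K.obj),
      (K.fil p).Factors x' ∧ π ≫ x ≫ f.hom = x' ≫ f.hom := by
  have : (imageSubobject ((K.fil p).arrow ≫ f.hom)).Factors (x ≫ f.hom) := by
    rw [hf p, Subobject.inf_factors]
    exact ⟨imageSubobject_factors_comp_self _ _, hx⟩
  obtain ⟨T', π, hπ, z, hz⟩ := mem_im _ _ this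
  exact ⟨T', π, hπ, z ≫ (K.fil p).arrow, (Subobject.factors_iff _ _).2 ⟨z, rfl⟩,
    by rw [hz, Category.assoc]⟩

/-! ### Pushouts -/

section Pushout

variable {K L M : FilObj A}

/-- The filtration generated by two maps. -/
noncomputable def supFil {Q : A} (a : L.obj ⟶ Q) (b : M.obj ⟶ Q) (p : ℤ) : Subobject Q :=
  imageSubobject (biprod.desc ((L.fil p).arrow ≫ a) ((M.fil p).arrow ≫ b))

lemma supFil_anti {Q : A} (a : L.obj ⟶ Q) (b : M.obj ⟶ Q) : Antitone (supFil (L := L) (M := M) a b) := by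
  intro p q h
  refine imageSubobject_le _ (biprod.map (L.stepLE h) (M.stepLE h) ≫ factorThruImageSubobject _) ?_
  show (_ ≫ _) ≫ (imageSubobject _).arrow = _
  rw [Category.assoc, imageSubobject_arrow_comp]
  ext <;> simp

/-- `Q` with the filtration generated by two maps. -/
@[simps obj]
noncomputable def supObj {Q : A} (a : L.obj ⟶ Q) (b : M.obj ⟶ Q) : FilObj A :=
  ⟨Q, supFil a b, supFil_anti a b⟩

lemma supFil_factors_left {Q : A} (a : L.obj ⟶ Q) (b : M.obj ⟶ Q) (p : ℤ) :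
    (supFil a b p).Factors ((L.fil p).arrow ≫ a) :=
  (Subobject.factors_iff _ _).2 ⟨biprod.inl ≫ factorThruImageSubobject _, by
    show (_ ≫ _) ≫ (imageSubobject _).arrow = _
    rw [Category.assoc, imageSubobject_arrow_comp, biprod.inl_desc]⟩

lemma supFil_factors_right {Q : A} (a : L.obj ⟶ Q) (b : M.obj ⟶ Q) (p : ℤ) :
    (supFil a b p).Factors ((M.fil p).arrow ≫ b) :=
  (Subobject.factors_iff _ _).2 ⟨biprod.inr ≫ factorThruImageSubobject _, by
    show (_ ≫ _) ≫ (imageSubobject _).arrow = _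
    rw [Category.assoc, imageSubobject_arrow_comp, biprod.inr_desc]⟩

noncomputable def supInl {Q : A} (a : L.obj ⟶ Q) (b : M.obj ⟶ Q) : L ⟶ supObj (L := L) (M := M) a b :=
  ⟨a, fun p => (le_pullback_iff _ _ _).2 (supFil_factors_left a b p)⟩

noncomputable def supInr {Q : A} (a : L.obj ⟶ Q) (b : M.obj ⟶ Q) : M ⟶ supObj (L := L) (M := M) a b :=
  ⟨b, fun p => (le_pullback_iff _ _ _).2 (supFil_factors_right a b p)⟩

noncomputable def supDesc {Q : A} (a : L.obj ⟶ Q) (b : M.obj ⟶ Q) {N : FilObj A} (x : L ⟶ N) (y : M ⟶ N)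
    (d : Q ⟶ N.obj) (ha : a ≫ d = x.hom) (hb : b ≫ d = y.hom) : supObj (L := L) (M := M) a b ⟶ N :=
  ⟨d, fun p => by
    refine im_le _ _ ((factors_pullback _ _ _).2 ((Subobject.factors_iff _ _).2 ⟨biprod.desc
      ((N.fil p).factorThru _ ((le_pullback_iff _ _ _).1 (x.compat p)))
      ((N.fil p).factorThru _ ((le_pullback_iff _ _ _).1 (y.compat p))), ?_⟩))
    show biprod.desc _ _ ≫ (N.fil p).arrow = _
    ext <;> simp [ha, hb]⟩

theorem hasPushout (f : K ⟶ L) (g : K ⟶ M) : HasPushout f g := by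
  let a := pushout.inl f.hom g.hom
  let b := pushout.inr f.hom g.hom
  have hcond : ∀ s : PushoutCocone f g, f.hom ≫ s.inl.hom = g.hom ≫ s.inr.hom := fun s =>
    congrArg FilObj.Hom.hom s.condition
  exact ⟨⟨⟨_, PushoutCocone.IsColimit.mk
    (FilObj.Hom.ext pushout.condition : f ≫ supInl a b = g ≫ supInr a b)
    (fun s => supDesc a b s.inl s.inr (pushout.desc s.inl.hom s.inr.hom (hcond s))
      (pushout.inl_desc _ _ _) (pushout.inr_desc _ _ _))
    (fun s => FilObj.Hom.ext (pushout.inl_desc _ _ _))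
    (fun s => FilObj.Hom.ext (pushout.inr_desc _ _ _))
    (fun s m h₁ h₂ => FilObj.Hom.ext (pushout.hom_ext
      (by show a ≫ m.hom = a ≫ pushout.desc _ _ _
          rw [pushout.inl_desc]; exact congrArg FilObj.Hom.hom h₁)
      (by show b ≫ m.hom = b ≫ pushout.desc _ _ _
          rw [pushout.inr_desc]; exact congrArg FilObj.Hom.hom h₂)))⟩⟩⟩

theorem isStrict_inr {f : K ⟶ L} {g : K ⟶ M} {P : FilObj A} {g' : L ⟶ P} {f' : M ⟶ P}
    (hP : IsPushout f g g' f') (hf : FilObj.IsStrict f) : FilObj.IsStrict f' := by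
  have hle : ∀ p, P.fil p ≤ supFil g'.hom f'.hom p := by
    let d := hP.desc (supInl g'.hom f'.hom) (supInr g'.hom f'.hom)
      (FilObj.Hom.ext (congrArg FilObj.Hom.hom hP.w :))
    let i := supDesc g'.hom f'.hom g' f' (𝟙 P.obj) (Category.comp_id _) (Category.comp_id _)
    have hdi : d ≫ i = 𝟙 P := hP.hom_ext
      (by rw [hP.inl_desc_assoc, Category.comp_id]; exact FilObj.Hom.ext (Category.comp_id _))
      (by rw [hP.inr_desc_assoc, Category.comp_id]; exact FilObj.Hom.ext (Category.comp_id _))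
    have hd : d.hom = 𝟙 P.obj := (Category.comp_id d.hom).symm.trans (congrArg FilObj.Hom.hom hdi)
    intro p
    have hc := d.compat p
    rw [hd] at hc
    have h2 : (supFil g'.hom f'.hom p).Factors ((P.fil p).arrow ≫ 𝟙 P.obj) := (le_pullback_iff _ _ _).1 hc
    rw [Category.comp_id] at h2
    exact Subobject.le_of_comm _ (Subobject.factorThru_arrow _ _ h2)
  refine strict_of f' fun p {T} y hy => ?_
  obtain ⟨T₁, π₁, hπ₁, w, hw⟩ := mem_im _ _ (Subobject.factors_of_le _ (hle p) hy)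
  set l := w ≫ biprod.fst ≫ (L.fil p).arrow with hl
  set m := w ≫ biprod.snd ≫ (M.fil p).arrow with hm
  have hlm : π₁ ≫ y ≫ f'.hom = l ≫ g'.hom + m ≫ f'.hom := by
    rw [hw, biprod.desc_eq, Preadditive.comp_add]
    simp [hl, hm]
  -- `l` lies in the image of `f`
  have hl0 : l ≫ cokernel.π f.hom = 0 := by
    let C : FilObj A := ⟨cokernel f.hom, fun _ => ⊤, fun _ _ _ => le_rfl⟩
    let u : L ⟶ C := ⟨cokernel.π f.hom, fun p => (le_pullback_iff _ _ _).2 (Subobject.top_factors _)⟩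
    let v : M ⟶ C := ⟨0, fun p => (le_pullback_iff _ _ _).2 (Subobject.top_factors _)⟩
    let d := hP.desc u v (FilObj.Hom.ext (by
      show f.hom ≫ cokernel.π f.hom = g.hom ≫ 0
      rw [cokernel.condition, comp_zero]))
    have h1 : g'.hom ≫ d.hom = cokernel.π f.hom := congrArg FilObj.Hom.hom (hP.inl_desc u v _)
    have h2 : f'.hom ≫ d.hom = 0 := congrArg FilObj.Hom.hom (hP.inr_desc u v _)
    have := hlm =≫ d.hom
    simpa [h1, h2] using this.symm
  obtain ⟨T₂, π₂, hπ₂, k, hk⟩ := (ShortComplex.exact_of_g_is_cokernel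
    (ShortComplex.mk f.hom (cokernel.π f.hom) (cokernel.condition _))
    (cokernelIsCokernel _)).exact_up_to_refinements l hl0
  replace hk : π₂ ≫ l = k ≫ f.hom := hk
  obtain ⟨T₃, π₃, hπ₃, k', hk', hkk⟩ := strict_elim f hf p k (by
    rw [← hk]
    exact Subobject.factors_of_factors_right π₂ ((Subobject.factors_iff _ _).2
      ⟨w ≫ biprod.fst, Category.assoc _ _ _⟩))
  refine ⟨T₃, π₃ ≫ π₂ ≫ π₁, inferInstance, k' ≫ g.hom + π₃ ≫ π₂ ≫ m, ?_, ?_⟩
  · refine Subobject.factors_add _ _ ?_ ?_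
    · have := (le_pullback_iff _ _ _).1 (g.compat p)
      rw [← Subobject.factorThru_arrow _ k' hk', Category.assoc]
      exact Subobject.factors_of_factors_right _ this
    · exact (Subobject.factors_iff _ _).2 ⟨π₃ ≫ π₂ ≫ w ≫ biprod.snd, by simp [hm]⟩
  · have hwf : g.hom ≫ f'.hom = f.hom ≫ g'.hom := (congrArg FilObj.Hom.hom hP.w).symm
    simp only [Category.assoc, Preadditive.add_comp, hwf]
    rw [hlm, ← reassoc_of% hkk, ← reassoc_of% hk]
    simp only [Preadditive.comp_add]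

end Pushout

/-! ### Pullbacks -/

section Pullback

variable {K L M : FilObj A}

/-- The filtration induced by two maps. -/
noncomputable def infFil {Q : A} (a : Q ⟶ L.obj) (b : Q ⟶ M.obj) (p : ℤ) : Subobject Q :=
  (Subobject.pullback a).obj (L.fil p) ⊓ (Subobject.pullback b).obj (M.fil p)

@[simps obj]
noncomputable def infObj {Q : A} (a : Q ⟶ L.obj) (b : Q ⟶ M.obj) : FilObj A :=
  ⟨Q, infFil a b, fun _ _ h => inf_le_inf
    ((Subobject.pullback a).map (homOfLE (L.anti h))).le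
    ((Subobject.pullback b).map (homOfLE (M.anti h))).le⟩

noncomputable def infFst {Q : A} (a : Q ⟶ L.obj) (b : Q ⟶ M.obj) : infObj (L := L) (M := M) a b ⟶ L :=
  ⟨a, fun _ => inf_le_left⟩

noncomputable def infSnd {Q : A} (a : Q ⟶ L.obj) (b : Q ⟶ M.obj) : infObj (L := L) (M := M) a b ⟶ M :=
  ⟨b, fun _ => inf_le_right⟩

noncomputable def infLift {Q : A} (a : Q ⟶ L.obj) (b : Q ⟶ M.obj) {N : FilObj A} (x : N ⟶ L) (y : N ⟶ M)
    (d : N.obj ⟶ Q) (ha : d ≫ a = x.hom) (hb : d ≫ b = y.hom) : N ⟶ infObj (L := L) (M := M) a b :=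
  ⟨d, fun p => by
    refine (le_pullback_iff _ _ _).2 ?_
    refine (Subobject.inf_factors _).2 ⟨(factors_pullback _ _ _).2 ?_, (factors_pullback _ _ _).2 ?_⟩
    · have := (le_pullback_iff _ _ _).1 (x.compat p)
      rw [← ha, ← Category.assoc] at this
      exact this
    · have := (le_pullback_iff _ _ _).1 (y.compat p)
      rw [← hb, ← Category.assoc] at this
      exact this⟩

theorem hasPullback (f : L ⟶ K) (g : M ⟶ K) : HasPullback f g := by
  let a := pullback.fst f.hom g.hom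
  let b := pullback.snd f.hom g.hom
  have hcond : ∀ s : PullbackCone f g, s.fst.hom ≫ f.hom = s.snd.hom ≫ g.hom := fun s =>
    congrArg FilObj.Hom.hom s.condition
  exact ⟨⟨⟨_, PullbackCone.IsLimit.mk
    (FilObj.Hom.ext pullback.condition : infFst a b ≫ f = infSnd a b ≫ g)
    (fun s => infLift a b s.fst s.snd (pullback.lift s.fst.hom s.snd.hom (hcond s))
      (pullback.lift_fst _ _ _) (pullback.lift_snd _ _ _))
    (fun s => FilObj.Hom.ext (pullback.lift_fst _ _ _))
    (fun s => FilObj.Hom.ext (pullback.lift_snd _ _ _))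
    (fun s m h₁ h₂ => FilObj.Hom.ext (pullback.hom_ext
      (by show m.hom ≫ a = pullback.lift _ _ _ ≫ a
          rw [pullback.lift_fst]; exact congrArg FilObj.Hom.hom h₁)
      (by show m.hom ≫ b = pullback.lift _ _ _ ≫ b
          rw [pullback.lift_snd]; exact congrArg FilObj.Hom.hom h₂)))⟩⟩⟩

theorem isStrict_snd {f : L ⟶ K} {g : M ⟶ K} {P : FilObj A} {g' : P ⟶ L} {f' : P ⟶ M}
    (hP : IsPullback g' f' f g) (hf : FilObj.IsStrict f) : FilObj.IsStrict f' := by
  have hle : ∀ p, infFil g'.hom f'.hom p ≤ P.fil p := by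
    let d := hP.lift (infFst g'.hom f'.hom) (infSnd g'.hom f'.hom)
      (FilObj.Hom.ext (congrArg FilObj.Hom.hom hP.w :))
    let i := infLift g'.hom f'.hom g' f' (𝟙 P.obj) (Category.id_comp _) (Category.id_comp _)
    have hid : i ≫ d = 𝟙 P := hP.hom_ext
      (by rw [Category.assoc, hP.lift_fst, Category.id_comp]; exact FilObj.Hom.ext (Category.id_comp _))
      (by rw [Category.assoc, hP.lift_snd, Category.id_comp]; exact FilObj.Hom.ext (Category.id_comp _))
    have hd : d.hom = 𝟙 P.obj := (Category.id_comp d.hom).symm.trans (congrArg FilObj.Hom.hom hid)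
    intro p
    have hc := d.compat p
    rw [hd] at hc
    have h2 : (P.fil p).Factors ((infFil g'.hom f'.hom p).arrow ≫ 𝟙 P.obj) := (le_pullback_iff _ _ _).1 hc
    rw [Category.comp_id] at h2
    exact Subobject.le_of_comm _ (Subobject.factorThru_arrow _ _ h2)
  have hw : g'.hom ≫ f.hom = f'.hom ≫ g.hom := congrArg FilObj.Hom.hom hP.w
  refine strict_of f' fun p {T} x hx => ?_
  obtain ⟨T', π, hπ, l, hl, hll⟩ := strict_elim f hf p (x ≫ g'.hom) (by
    rw [Category.assoc, hw, ← Category.assoc, ← Subobject.factorThru_arrow _ _ hx, Category.assoc]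
    exact Subobject.factors_of_factors_right _ ((le_pullback_iff _ _ _).1 (g.compat p)))
  let W : FilObj A := ⟨T', fun _ => ⊥, fun _ _ _ => le_rfl⟩
  let u : W ⟶ L := ⟨l, fun _ => bot_le⟩
  let v : W ⟶ M := ⟨π ≫ x ≫ f'.hom, fun _ => bot_le⟩
  let z := hP.lift u v (FilObj.Hom.ext (by
    show l ≫ f.hom = (π ≫ x ≫ f'.hom) ≫ g.hom
    rw [← hll, Category.assoc, Category.assoc, Category.assoc, hw]))
  have h1 : z.hom ≫ g'.hom = l := congrArg FilObj.Hom.hom (hP.lift_fst u v _)
  have h2 : z.hom ≫ f'.hom = π ≫ x ≫ f'.hom := congrArg FilObj.Hom.hom (hP.lift_snd u v _)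
  refine ⟨T', π, hπ, z.hom, Subobject.factors_of_le _ (hle p) ?_, h2.symm⟩
  rw [infFil, Subobject.inf_factors, factors_pullback, factors_pullback, h1, h2]
  exact ⟨hl, Subobject.factors_of_factors_right π hx⟩

end Pullback

end Groth.Agent.SpSeqFilLim
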